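import Mathlib

/-!
# Matrix coefficients of pairwise non-isomorphic simple modules (helper213)
-/

set_option autoImplicit false

namespace Cfsg.Agent.H213.SM

open Module

section span

variable {R : Type*} [Ring R] {ι : Type*} [Finite ι] {V : ι → Type*} [∀ i, AddCommGroup (V i)]
  [∀ i, Module R (V i)] [∀ i, IsSimpleModule R (V i)]

/-- In a product of pairwise non-isomorphic simple modules a vector with nonzero coordinates generates. -/
theorem span_eq_top (hne : ∀ i j, i ≠ j → IsEmpty (V i ≃ₗ[R] V j)) (v : ∀ i, V i) (hv : ∀ i, v i ≠ 0) :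
    Submodule.span R {v} = ⊤ := by
  classical
  have := Fintype.ofFinite ι
  by_contra h
  obtain ⟨N, hN, hle⟩ := (eq_top_or_exists_le_coatom (Submodule.span R {v})).resolve_left h
  have hS : IsSimpleModule R ((∀ i, V i) ⧸ N) := isSimpleModule_iff_isCoatom.2 hN
  set f := N.mkQ with hf
  set F : ∀ i, V i →ₗ[R] ((∀ i, V i) ⧸ N) := fun i => f ∘ₗ LinearMap.single R V i with hF
  have hb : ∀ i, Function.Bijective (F i) ∨ F i = 0 := fun i => LinearMap.bijective_or_eq_zero (F i)
  have hsum : ∀ x : ∀ i, V i, f x = ∑ i, F i (x i) := by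
    intro x
    conv_lhs => rw [← Finset.univ_sum_single x]
    rw [map_sum]
    rfl
  have h0 : ∃ i, F i ≠ 0 := by
    by_contra h0
    push Not at h0
    have h1 : f = 0 := by
      refine LinearMap.ext fun x => ?_
      rw [hsum]
      simp [h0]
    have h2 : N = ⊤ := by rw [← Submodule.ker_mkQ N, ← hf, h1, LinearMap.ker_zero]
    exact hN.1 h2
  obtain ⟨i, hi⟩ := h0
  have hib := (hb i).resolve_right hi
  have hj : ∀ j, j ≠ i → F j = 0 := by
    intro j hj
    refine (hb j).resolve_left fun hjb => ?_
    exact (hne j i hj).false ((LinearEquiv.ofBijective (F j) hjb).trans (LinearEquiv.ofBijective (F i) hib).symm)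
  have h1 : f v = 0 := by
    rw [hf, Submodule.mkQ_apply, Submodule.Quotient.mk_eq_zero]
    exact hle (Submodule.mem_span_singleton_self v)
  rw [hsum, Finset.sum_eq_single i (fun j _ hji => by rw [hj j hji]; rfl)
    (fun h => absurd (Finset.mem_univ i) h)] at h1
  exact hv i (hib.1 (h1.trans (map_zero (F i)).symm))

end span

section alg

variable {k A : Type*} [Field k] [Ring A] {ι : Type*} [Finite ι] {V : ι → Type*}
  [∀ i, AddCommGroup (V i)] [∀ i, Module k (V i)] [∀ i, Module A (V i)] [∀ i, IsSimpleModule A (V i)]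

/-- **Matrix coefficients of pairwise non-isomorphic simple modules are linearly independent.** -/
theorem linearIndependent_coeff (hne : ∀ i j, i ≠ j → IsEmpty (V i ≃ₗ[A] V j)) (v : ∀ i, V i)
    (hv : ∀ i, v i ≠ 0) (φ : ∀ i, Module.Dual k (V i)) (hφ : ∀ i, φ i ≠ 0) {c : ι → k} [Fintype ι]
    (h : ∀ a : A, ∑ i, c i * φ i (a • v i) = 0) (i : ι) : c i = 0 := by
  classical
  have h1 : ∀ x : ∀ i, V i, ∑ j, c j * φ j (x j) = 0 := by
    intro x
    have hx : x ∈ Submodule.span A {v} := by rw [span_eq_top hne v hv]; trivial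
    obtain ⟨a, rfl⟩ := Submodule.mem_span_singleton.1 hx
    exact h a
  by_contra hc
  apply hφ i
  ext y
  have h2 := h1 (Pi.single i y)
  rw [Finset.sum_eq_single i (fun j _ hji => by rw [Pi.single_eq_of_ne hji, map_zero, mul_zero])
    (fun h => absurd (Finset.mem_univ i) h), Pi.single_eq_same] at h2
  exact (mul_eq_zero.1 h2).resolve_left hc

end alg

section rep

variable {k P : Type*} [Field k] [Group P] {ι : Type*} [Fintype ι] {V : ι → Type*}
  [∀ i, AddCommGroup (V i)] [∀ i, Module k (V i)] (ρ : ∀ i, Representation k P (V i))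

/-- A representation is irreducible (explicit form). -/
def Irr {V : Type*} [AddCommGroup V] [Module k V] (ρ : Representation k P V) : Prop :=
  Nontrivial V ∧ ∀ W : Submodule k V, (∀ g, ∀ w ∈ W, ρ g w ∈ W) → W = ⊥ ∨ W = ⊤

/-- Two representations are isomorphic (explicit form). -/
def Iso {V V' : Type*} [AddCommGroup V] [Module k V] [AddCommGroup V'] [Module k V'] (ρ : Representation k P V)
    (ρ' : Representation k P V') : Prop :=
  ∃ e : V ≃ₗ[k] V', ∀ g v, e (ρ g v) = ρ' g (e v)

theorem Irr.isSimpleModule {V : Type*} [AddCommGroup V] [Module k V] {ρ : Representation k P V} (h : Irr ρ) :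
    IsSimpleModule (MonoidAlgebra k P) ρ.asModule := by
  rw [← Representation.irreducible_iff_isSimpleModule_asModule]
  have := h.1
  have hn : Nontrivial (Subrepresentation ρ) := by
    refine ⟨⟨⊥, ⊤, fun he => ?_⟩⟩
    have h1 : (⊥ : Submodule k V) = ⊤ := congrArg Subrepresentation.toSubmodule he
    exact bot_ne_top h1
  refine { eq_bot_or_eq_top := fun W => ?_ }
  rcases h.2 W.toSubmodule (fun g w hw => W.apply_mem_toSubmodule g hw) with h1 | h1
  · left
    apply Subrepresentation.toSubmodule_injective
    rw [h1]; rfl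
  · right
    apply Subrepresentation.toSubmodule_injective
    rw [h1]; rfl

variable {ρ}

theorem coeff_eq_zero (hirr : ∀ i, Irr (ρ i)) (hne : ∀ i j, i ≠ j → ¬ Iso (ρ i) (ρ j)) (v : ∀ i, V i)
    (hv : ∀ i, v i ≠ 0) (φ : ∀ i, Module.Dual k (V i)) (hφ : ∀ i, φ i ≠ 0) {c : ι → k}
    (h : ∀ g : P, ∑ i, c i * φ i (ρ i g (v i)) = 0) (i : ι) : c i = 0 := by
  have hs : ∀ i, IsSimpleModule (MonoidAlgebra k P) (ρ i).asModule := fun i => (hirr i).isSimpleModule
  refine linearIndependent_coeff (k := k) (A := MonoidAlgebra k P) (V := fun i => (ρ i).asModule) (fun i j hij => ?_)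
    (fun i => (ρ i).asModuleEquiv.symm (v i)) (fun i => ?_) (fun i => φ i ∘ₗ (ρ i).asModuleEquiv.toLinearMap)
    (fun i => ?_) (c := c) (fun a => ?_) i
  · refine ⟨fun e => hne i j hij ?_⟩
    refine ⟨((ρ i).asModuleEquiv.symm.trans (e.restrictScalars k)).trans (ρ j).asModuleEquiv, fun g v => ?_⟩
    simp only [LinearEquiv.trans_apply, LinearEquiv.restrictScalars_apply]
    rw [Representation.asModuleEquiv_symm_map_rho, map_smul, Representation.asModuleEquiv_map_smul,
      Representation.asAlgebraHom_of]
  · simpa using hv i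
  · intro h0
    apply hφ i
    ext x
    have := LinearMap.congr_fun h0 ((ρ i).asModuleEquiv.symm x)
    simpa using this
  · simp only [LinearMap.comp_apply, LinearEquiv.coe_coe, Representation.asModuleEquiv_map_smul,
      LinearEquiv.apply_symm_apply]
    induction a using MonoidAlgebra.induction_on with
    | of g => simpa [Representation.asAlgebraHom_of] using h g
    | add a b ha hb => simp only [map_add, LinearMap.add_apply, mul_add, Finset.sum_add_distrib, ha, hb, add_zero]
    | smul r a ha =>
      simp only [map_smul, LinearMap.smul_apply, smul_eq_mul]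
      rw [← mul_zero r, ← ha, Finset.mul_sum]
      exact Finset.sum_congr rfl fun _ _ => by ring

end rep

end Cfsg.Agent.H213.SM
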